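import Groth.Agent.RFRlimLib.Main
import Groth.Agent.SerreDerLib.RBound
import Groth.Agent.RlimCrit.Criterion
import Groth.Agent.RlimCrit.ClBij
import Groth.Agent.TildeD.Adj
import Mathlib.Algebra.Category.Grp.AB

/-! Bounds for right derived functors to abelian groups on unbounded objects. -/

set_option autoImplicit false
set_option linter.style.haveILetI false
set_option linter.unusedSectionVars false
set_option backward.isDefEq.respectTransparency false
set_option maxHeartbeats 1000000

universe w v u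

open CategoryTheory Limits Pretriangulated Opposite DerivedCategory Groth.Agent.RlimCrit

noncomputable section

namespace Groth.Agent.RFBoundLib

section Projective

variable {A : Type u} [Category.{v} A] [Abelian A] [HasDerivedCategory.{w} A]

/-- Morphisms out of a projective object placed in a degree compute cohomology. -/
theorem bijective_cl_of_projective (M : A) [Projective M] (hM : IsSeparator M) (q : ℤ) (X : DerivedCategory A) :
    Function.Bijective (cl : (sgl q M ⟶ X) → _) := by
  let P : Discrete PUnit.{1} ⥤ A := (Functor.const _).obj M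
  let J : GrothendieckTopology (Discrete PUnit.{1}) := GrothendieckTopology.trivial _
  have htop : ∀ {U : Discrete PUnit.{1}} (S : Sieve U), S ∈ J U → S (𝟙 U) := fun {U} S hS => by
    rw [show S = ⊤ from hS]; trivial
  have hP : IsLocGen J P :=
    { lift := fun {A' B'} e _ {U} x => ⟨⊤, J.top_mem U, fun V f _ =>
        ⟨(Projective.factorThru (P := M) x e : M ⟶ A'),
          (Projective.factorThru_comp (P := M) x e).trans
            ((Category.id_comp (X := M) (x : M ⟶ B')).symm)⟩⟩
      sep := fun {A'} {U} x S hS h => (Category.id_comp x).symm.trans (h (𝟙 U) (htop S hS))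
      det := fun {A' B'} k h => hM.def _ _ fun m => (h ⟨PUnit.unit⟩ m).trans comp_zero.symm }
  refine ⟨fun ξ ξ' h => sub_eq_zero.1 ?_, fun x => ?_⟩
  · obtain ⟨T, hT, hz⟩ := exists_local_zero hP (U := ⟨PUnit.unit⟩) (ξ - ξ') (by rw [cl_sub, h, sub_self])
    have := hz (𝟙 _) (htop T hT)
    have h1 : sglMap q (P.map (𝟙 (⟨PUnit.unit⟩ : Discrete PUnit.{1}))) = 𝟙 _ := by
      rw [P.map_id, sglMap, CategoryTheory.Functor.map_id, CategoryTheory.Functor.map_id]
    exact (Category.id_comp _).symm.trans ((congrArg (· ≫ (ξ - ξ')) h1.symm).trans this)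
  · obtain ⟨T, hT, hl⟩ := exists_local_class hP (U := ⟨PUnit.unit⟩) x
    obtain ⟨ξ, hξ⟩ := hl (𝟙 _) (htop T hT)
    exact ⟨ξ, hξ.trans (Category.id_comp x)⟩

/-- A derived limit of objects without cohomology in a degree and with eventually surjective cohomology
one degree below has no cohomology in that degree. -/
theorem isZero_homology_of_rlim (M : A) [Projective M] (hM : IsSeparator M) {K : ℕ → DerivedCategory A}
    {t : ∀ n, K (n + 1) ⟶ K n} [HasProduct K] {L : DerivedCategory A} {a : ∀ n, L ⟶ K n}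
    (hL : CohCx.IsRlimVia K t L a) (i : ℤ) (N : ℕ)
    (h0 : ∀ n, IsZero ((homologyFunctor A i).obj (K n)))
    (h1 : ∀ n, N ≤ n → Epi ((homologyFunctor A (i - 1)).map (t n))) :
    IsZero ((homologyFunctor A i).obj L) := by
  refine (IsZero.iff_id_eq_zero _).2 (hM.def _ _ fun m => ?_)
  obtain ⟨ξ, hξ⟩ := (bijective_cl_of_projective M hM i L).2 m
  have hK : ∀ n, ∀ z : sgl i M ⟶ K n, z = 0 := fun n z =>
    (bijective_cl_of_projective M hM i (K n)).1 ((h0 n).eq_of_tgt _ _)
  have hξ0 : ξ = 0 := eq_zero_of_isRlimVia hL N (fun n _ z _ => hK _ z) (fun n hn w => by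
    let e := sglShiftIso M (i - 1) i (by omega)
    haveI := h1 n hn
    obtain ⟨v, hv⟩ := (bijective_cl_of_projective M hM (i - 1) (K (n + 1))).2
      (Projective.factorThru (cl (e.inv ≫ w)) ((homologyFunctor A (i - 1)).map (t n)))
    refine ⟨e.hom ≫ v, ?_⟩
    have : v ≫ t n = e.inv ≫ w := (bijective_cl_of_projective M hM (i - 1) (K n)).1 (by
      rw [cl_comp, hv, Projective.factorThru_comp])
    rw [Category.assoc, this, Iso.hom_inv_id_assoc]) ξ (hK N _)
  rw [← hξ, hξ0, cl_zero, zero_comp, comp_zero]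

end Projective

attribute [local instance] HasDerivedCategory.standard

/-- The integers separate abelian groups. -/
theorem isSeparator_zlift : IsSeparator (AddCommGrpCat.of (ULift.{v} ℤ)) := by
  refine (Preadditive.isSeparator_iff _).2 fun {X Y} f h => AddCommGrpCat.ext fun x => ?_
  have h1 := ConcreteCategory.congr_hom (h (AddCommGrpCat.ofHom
    ((zmultiplesHom X x).comp AddEquiv.ulift.toAddMonoidHom))) (ULift.up 1)
  exact (congrArg f (one_zsmul x).symm).trans h1

instance projective_zlift : Projective (AddCommGrpCat.of (ULift.{v} ℤ)) where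
  factors {E X} f e he := by
    obtain ⟨z, hz⟩ := (AddCommGrpCat.epi_iff_surjective e).1 he (f (ULift.up 1))
    refine ⟨AddCommGrpCat.ofHom ((zmultiplesHom E z).comp AddEquiv.ulift.toAddMonoidHom), AddCommGrpCat.ext fun ⟨n⟩ => ?_⟩
    have hn : (ULift.up n : ULift.{v} ℤ) = n • ULift.up 1 := by ext; simp
    show e (n • z) = f (ULift.up n)
    rw [hn, map_zsmul, map_zsmul, hz]

variable {A : Type (v + 1)} [Category.{v} A] [Abelian A] [IsGrothendieckAbelian.{v} A]
  (F : A ⥤ AddCommGrpCat.{v}) [F.Additive] [EnoughInjectives A]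
  [(F.mapHomotopyCategory (ComplexShape.up ℤ) ⋙ DerivedCategory.Qh).HasRightDerivedFunctor
    (HomotopyCategory.quasiIso A (ComplexShape.up ℤ))]

local notation "RF" => Functor.totalRightDerived (Functor.mapHomotopyCategory F (ComplexShape.up ℤ) ⋙ DerivedCategory.Qh)
  DerivedCategory.Qh (HomotopyCategory.quasiIso A (ComplexShape.up ℤ))
local notation "tA" => (DerivedCategory.TStructure.t : Triangulated.TStructure (DerivedCategory A))

/-- The derived functor is isomorphic to a triangulated functor. -/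
theorem exists_triangulated : ∃ (G : DerivedCategory A ⥤ DerivedCategory AddCommGrpCat.{v})
    (_ : G.CommShift ℤ), G.IsTriangulated ∧ Nonempty (RF ≅ G) := by
  let hres := KInj.hres_of_isGrothendieckAbelian A
  let Φ := F.mapHomotopyCategory (ComplexShape.up ℤ) ⋙ DerivedCategory.Qh
  let adj := KInj.qhAdjunction hres
  let R := KInj.rightAdj hres
  letI : R.CommShift ℤ := adj.rightAdjointCommShift ℤ
  haveI : adj.CommShift ℤ := adj.commShift_of_leftAdjoint ℤ
  haveI : R.IsTriangulated := adj.isTriangulated_rightAdjoint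
  exact ⟨R ⋙ F.mapHomotopyCategory (ComplexShape.up ℤ) ⋙ DerivedCategory.Qh, inferInstance, inferInstance,
    ⟨Functor.rightDerivedUnique RF (R ⋙ Φ)
      (Φ.totalRightDerivedUnit DerivedCategory.Qh (HomotopyCategory.quasiIso A (ComplexShape.up ℤ)))
      (KInj.derivedUnit hres Φ) (HomotopyCategory.quasiIso A (ComplexShape.up ℤ))⟩⟩

/-- Cohomology of the derived functor on a distinguished triangle. -/
theorem rf_triangle (T : Triangle (DerivedCategory A)) (hT : T ∈ distTriang _) (i j : ℤ) (hij : i + 1 = j) :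
    (IsZero ((homologyFunctor _ i).obj ((RF).obj T.obj₁)) → IsZero ((homologyFunctor _ i).obj ((RF).obj T.obj₃)) →
      IsZero ((homologyFunctor _ i).obj ((RF).obj T.obj₂))) ∧
    (IsZero ((homologyFunctor _ j).obj ((RF).obj T.obj₁)) →
      Epi ((homologyFunctor _ i).map ((RF).map T.mor₂))) ∧
    (IsZero ((homologyFunctor _ i).obj ((RF).obj T.obj₁)) →
      Mono ((homologyFunctor _ i).map ((RF).map T.mor₂))) := by
  obtain ⟨G, _, _, ⟨e⟩⟩ := exists_triangulated F
  let H := fun k => homologyFunctor AddCommGrpCat.{v} k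
  have hG := G.map_distinguished T hT
  have hz : ∀ k (X : DerivedCategory A), IsZero ((H k).obj ((RF).obj X)) → IsZero ((H k).obj (G.obj X)) :=
    fun k X h => h.of_iso ((H k).mapIso (e.app X).symm)
  have hmap : ∀ k, (H k).map ((RF).map T.mor₂) =
      (H k).map (e.hom.app _) ≫ (H k).map (G.map T.mor₂) ≫ (H k).map (e.inv.app _) := fun k => by
    rw [← Functor.map_comp, ← Functor.map_comp, ← e.hom.naturality_assoc, Iso.hom_inv_id_app, Category.comp_id]
  refine ⟨fun h1 h3 => ?_, fun h1 => ?_, fun h1 => ?_⟩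
  · exact ((HomologySequence.exact₂ _ hG i).isZero_of_both_zeros ((hz i _ h1).eq_of_src _ _)
      ((hz i _ h3).eq_of_tgt _ _)).of_iso ((H i).mapIso (e.app T.obj₂))
  · haveI : Epi ((H i).map (G.map T.mor₂)) :=
      (HomologySequence.epi_homologyMap_mor₂_iff _ hG i j hij).2 ((hz j _ h1).eq_of_tgt _ _)
    rw [hmap]
    infer_instance
  · haveI : Mono ((H i).map (G.map T.mor₂)) :=
      (HomologySequence.mono_homologyMap_mor₂_iff _ hG i).2 ((hz i _ h1).eq_of_src _ _)
    rw [hmap]
    infer_instance

/-- The derived functor preserves lower bounds. -/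
theorem isZero_of_isGE' (E : DerivedCategory A) (a : ℤ) [hge : E.IsGE a] (i : ℤ) (hi : i < a) :
    IsZero ((homologyFunctor _ i).obj ((RF).obj E)) := by
  let hres := KInj.hres_of_isGrothendieckAbelian A
  let Z : DerivedCategory.Plus A := ⟨E, a, hge⟩
  haveI : Z.IsGE a := (Z.isGE_ι_obj_iff a).1 hge
  obtain ⟨L, hL, ⟨e⟩⟩ := DerivedCategory.Plus.exists_injective_nonempty_iso Z a
  let I : CochainComplex A ℤ := ((InjectiveObject.ι A).mapHomologicalComplex (ComplexShape.up ℤ)).obj L.obj
  haveI : I.IsStrictlyGE a := inferInstance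
  haveI : ∀ n, Injective (I.X n) := fun n => inferInstanceAs (Injective ((InjectiveObject.ι A).obj (L.obj.X n)))
  haveI := CochainComplex.isKInjective_of_injective I a
  let Φ := F.mapHomotopyCategory (ComplexShape.up ℤ) ⋙ DerivedCategory.Qh
  let α := Φ.totalRightDerivedUnit DerivedCategory.Qh (HomotopyCategory.quasiIso A (ComplexShape.up ℤ))
  haveI := KInj.isIso_app_of_isKInjective hres Φ RF α I
  let q := HomotopyCategory.quotient A (ComplexShape.up ℤ)
  let S' := (F.mapHomologicalComplex (ComplexShape.up ℤ)).obj I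
  let eE : DerivedCategory.Qh.obj (q.obj I) ≅ E :=
    (DerivedCategory.quotientCompQhIso A).app I ≪≫ DerivedCategory.Plus.ι.mapIso e
  let e₂ : (homologyFunctor _ i).obj ((RF).obj E) ≅ S'.homology i :=
    (homologyFunctor _ i).mapIso ((RF).mapIso eE.symm ≪≫ (asIso (α.app (q.obj I))).symm ≪≫
      DerivedCategory.Qh.mapIso ((F.mapHomotopyCategoryFactors (ComplexShape.up ℤ)).app I) ≪≫
      (DerivedCategory.quotientCompQhIso _).app S') ≪≫
      (DerivedCategory.homologyFunctorFactors _ i).app S'
  refine IsZero.of_iso ?_ e₂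
  rw [← HomologicalComplex.exactAt_iff_isZero_homology]
  exact ShortComplex.exact_of_isZero_X₂ _ (F.map_isZero (CochainComplex.isZero_of_isStrictlyGE I a i hi))

section Upper

variable [PreservesLimitsOfShape (Discrete ℕ) F] [HasProductsOfShape ℕ A]
  (Gd : A → Prop) (hGd : ∀ {M M' : A}, (M ≅ M') → Gd M → Gd M') (hGd0 : ∀ M : A, IsZero M → Gd M) (N : ℕ)
  (hF : ∀ G : A, Gd G → ∀ p : ℕ, N ≤ p → IsZero ((F.rightDerived p).obj G))

include hGd hGd0 hF in
/-- The upper bound for objects which are limits of their truncations. -/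
theorem isZero_of_isLE' (E : DerivedCategory A) (b : ℤ) [hle : E.IsLE b] [HasProduct (CohCx.truncTower E)]
    (hE : CohCx.IsRlimVia (CohCx.truncTower E) (CohCx.truncTowerMap E) E (CohCx.toTruncTower E))
    (hG : ∀ i, Gd ((homologyFunctor A i).obj E)) (i : ℤ) (hi : b + N - 1 < i) :
    IsZero ((homologyFunctor _ i).obj ((RF).obj E)) := by
  let hres := KInj.hres_of_isGrothendieckAbelian A
  have hb : ∀ (Y : DerivedCategory A) (a c : ℤ) (k : ℤ),
      (∀ j, j < a ∨ c < j → IsZero ((homologyFunctor A j).obj Y)) →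
      (∀ j, Gd ((homologyFunctor A j).obj Y)) → c + N - 1 < k → IsZero ((homologyFunctor _ k).obj ((RF).obj Y)) :=
    fun Y a c k h1 h2 h3 => RBoundLib.isZero_totalRightDerived F
      hres Gd hGd N hF Y a c h1 h2 k (Or.inr h3)
  haveI : HasProduct fun n => (RF).obj (CohCx.truncTower E n) :=
    haveI := TildeD.hasProductsOfShape_derived (KInj.hres_of_isGrothendieckAbelian AddCommGrpCat.{v}) ℕ
    inferInstance
  obtain ⟨a', c', h'⟩ := RFRlimLib.isRlim_rightDerived F (CohCx.truncTower E) (CohCx.truncTowerMap E) E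
    ⟨_, hE⟩
  have hV : CohCx.IsRlimVia (fun n => (RF).obj (CohCx.truncTower E n))
      (fun n => (RF).map (CohCx.truncTowerMap E n)) ((RF).obj E) (fun n => a' ≫ Pi.π _ n) := ⟨c', by
    rw [show Pi.lift (fun n => a' ≫ Pi.π _ n) = a' from Pi.hom_ext _ _ fun n => Pi.lift_π _ _]
    exact h'⟩
  have hlow : ∀ (n : ℕ) (j : ℤ), j < -(n : ℤ) → IsZero ((homologyFunctor A j).obj (CohCx.truncTower E n)) :=
    fun n j hj => by
      haveI : (CohCx.truncTower E n).IsGE (-(n : ℤ)) := TStructure.t.isGE_truncGE_obj E _ _ le_rfl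
      exact isZero_of_isGE _ (-(n : ℤ)) j hj
  refine isZero_homology_of_rlim (AddCommGrpCat.of (ULift.{v} ℤ)) isSeparator_zlift hV i
    (N + (-i).toNat + 1) (fun n => hb _ (-(n : ℤ)) b i (fun j hj => ?_) (fun j => ?_) hi) fun n hn => ?_
  · rcases hj with hj | hj
    · exact hlow n j hj
    · by_cases h : -(n : ℤ) ≤ j
      · haveI := DCohLib.isIso_homology_truncGEπ E (-(n : ℤ)) j h
        exact (isZero_of_isLE E b j hj).of_iso
          (asIso ((homologyFunctor A j).map (((tA).truncGEπ (-(n : ℤ))).app E))).symm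
      · exact hlow n j (by omega)
  · by_cases h : -(n : ℤ) ≤ j
    · haveI := DCohLib.isIso_homology_truncGEπ E (-(n : ℤ)) j h
      exact hGd (asIso ((homologyFunctor A j).map (((tA).truncGEπ (-(n : ℤ))).app E))) (hG j)
    · exact hGd0 _ (hlow n j (by omega))
  · obtain ⟨X, f, δ, hT⟩ := distinguished_cocone_triangle₁ (CohCx.truncTowerMap E n)
    let j : ℤ := -((n : ℤ) + 1)
    haveI : (CohCx.truncTower E (n + 1)).IsGE j := TStructure.t.isGE_truncGE_obj E _ j (by omega)
    haveI : (CohCx.truncTower E n).IsGE (j + 1) := TStructure.t.isGE_truncGE_obj E _ (j + 1) (by omega)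
    obtain ⟨W, ⟨eX⟩, ⟨eW⟩⟩ := exists_fibre_iso_single f (CohCx.truncTowerMap E n) δ hT j
      fun k hk => isIso_homology_truncTowerMap E n k (by omega)
    haveI := DCohLib.isIso_homology_truncGEπ E (-((n + 1 : ℕ) : ℤ)) j (by omega)
    have hW : Gd W := hGd ((asIso ((homologyFunctor A j).map
      (((tA).truncGEπ (-((n + 1 : ℕ) : ℤ))).app E))) ≪≫ eW.symm) (hG j)
    have hXz : ∀ k, k ≠ j → IsZero ((homologyFunctor A k).obj X) := fun k hk => by
      refine IsZero.of_iso ?_ ((homologyFunctor A k).mapIso eX)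
      rcases lt_or_gt_of_ne hk with h | h
      · exact isZero_of_isGE _ j k h
      · exact isZero_of_isLE _ j k h
    refine (rf_triangle F _ hT (i - 1) i (by omega)).2.1 (hb X j j i (fun k hk => hXz k (by omega)) (fun k => ?_)
      (by omega))
    rcases eq_or_ne k j with rfl | hk
    · exact hGd (((homologyFunctor A j).mapIso eX) ≪≫ (singleFunctorCompHomologyFunctorIso A j).app W).symm hW
    · exact hGd0 _ (hXz k hk)

end Upper

end Groth.Agent.RFBoundLib

end
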